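import Groth.Agent.Lib.RightAdj20.DiagRigid
import Groth.Agent.Lib.ShriekPerf22.Etale
import Groth.Agent.Lib.ShriekBridge22.FlatShriek

/-! # `f^!O` is rigid along the diagonal for a flat separated morphism -/

set_option autoImplicit false
set_option maxHeartbeats 2000000
set_option linter.style.haveILetI false
set_option backward.isDefEq.respectTransparency false
universe u

open CategoryTheory CategoryTheory.Limits AlgebraicGeometry GrothLib.OX GrothLib.RightAdj22

attribute [local instance] HasDerivedCategory.standard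

noncomputable section

namespace GrothLib.ShriekRigid22

variable {X Y : Scheme.{u}}

/-- **`f^!O` underlies a relative dualizing complex.** -/
theorem isRelDualizing_shriekC [AlgebraicGeometry.IsNoetherian X] [AlgebraicGeometry.IsNoetherian Y]
    (f : X ⟶ Y) [LocallyOfFiniteType f] [Flat f] [IsSeparated f] [DCoh.HasLpull (pullback.fst f f)]
    [PreservesFiniteLimits (Scheme.Modules.pushforward (pullback.diagonal f))]
    [PreservesFiniteColimits (Scheme.Modules.pushforward (pullback.diagonal f))]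
    (c : DEt.Compactification f) [DCoh.HasRpush c.fbar] (hc : DCoh.RpushPreservesQCoh c.fbar)
    {a : DCoh.DQCoh Y ⥤ DCoh.DQCoh c.Xbar} (adj : DCoh.RpushQ c.fbar hc ⊣ a)
    [∀ (U V : Scheme.{u}) (j : U ⟶ V) [IsOpenImmersion j], PreservesFiniteLimits (Scheme.Modules.restrictFunctor j)]
    (O : DCoh.DQCoh Y) (hO : Nonempty (O.obj ≅ DCoh.inD Y (Coh.structureModule Y))) :
    Dual3.IsRelDualizing f ((Dual3.shriekC c a).obj O) := by
  let X' := pullback f f
  let g' : X' ⟶ X := pullback.fst f f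
  let f' : X' ⟶ X := pullback.snd f f
  haveI : QuasiCompact f := quasiCompact_of_compactSpace f
  haveI : LocallyOfFiniteType f' := inferInstance
  haveI : IsLocallyNoetherian X' := LocallyOfFiniteType.isLocallyNoetherian f'
  haveI : CompactSpace X' := QuasiCompact.compactSpace_of_compactSpace f'
  haveI : AlgebraicGeometry.IsNoetherian X' := {}
  let Xb := pullback c.fbar f
  let j' : X' ⟶ Xb := pullback.map f f c.fbar f c.j (𝟙 X) (𝟙 Y) (by simp [c.fac]) (by simp)
  let c' : DEt.Compactification f' :=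
    ⟨Xb, j', pullback.snd c.fbar f, inferInstance, inferInstance, by simp [j', f']⟩
  haveI := isNoetherian_of_proper c'.fbar
  haveI : QuasiSeparated c'.fbar := inferInstance
  haveI : DCoh.HasRpush c'.fbar := KInj.hasRightDerivedFunctor _
  have hc' : DCoh.RpushPreservesQCoh c'.fbar := fun K hK =>
    KSix19.BettiExact.isQCohD_of_iso' ((rpushIsoRres c'.fbar).app K).symm (isQCohD_Rres c'.fbar K hK)
  let adj' := (aQAdj c'.fbar).ofNatIsoLeft (rpushQIso c'.fbar hc').symm
  haveI := hasLpull f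
  have hLg : Dual3.LpullPreservesQCoh f := fun _ hK => TorBC25.isQCohD_lpull f hK
  obtain ⟨b⟩ := HomBC22.nonempty_shriekC_bc (IsPullback.of_hasPullback f f) c c' hc hc' adj adj' hLg
  have hO0 := ShriekBridge22.isGE_zero_of_iso_structure hO
  let O₁ : BQ Y := ⟨O, 0, hO0⟩
  let OX : DCoh.DQCoh X := (Dual3.LpullQ f hLg).obj O
  obtain ⟨l⟩ := Detect22.nonempty_lpull_unit f
  obtain ⟨eO⟩ := id hO
  let eX : OX.obj ≅ DCoh.inD X (Coh.structureModule X) :=
    (DCoh.Lpull f).mapIso (eO ≪≫ (unitCxQIso Y).symm) ≪≫ l ≪≫ unitCxQIso X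
  have hX0 : OX.obj.IsGE 0 := ShriekBridge22.isGE_zero_of_iso_structure ⟨eX⟩
  let O₂ : BQ X := ⟨OX, 0, hX0⟩
  obtain ⟨s⟩ := nonempty_shriekC c' hc' adj'
  haveI hj' : IsOpenImmersion c'.j := c'.isOpenImmersion
  haveI hp' : IsProper c'.fbar := c'.isProper
  let GB := (shB c'.j c'.fbar).obj O₂
  let Δ := pullback.diagonal f
  obtain ⟨u⟩ := nonempty_shB_comp (𝟙 X) Δ c'.j c'.fbar (𝟙 X) (𝟙 X) (Category.id_comp Δ) c'.fac
    ((Category.id_comp _).trans (pullback.diagonal_snd f).symm)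
  let θ : ((aQ Δ).obj GB.obj).obj ≅ OX.obj :=
    ((BQι X).mapIso (u.app O₂ ≪≫ (resBId X).app ((aB Δ).obj GB))).symm ≪≫
      (BQι X).mapIso ((resBId X).app _ ≪≫ aBId.app O₂)
  -- `Lpr₁^* f^!O`
  let eW : (DCoh.Lpull g').obj ((Dual3.shriekC c a).obj O) ≅ GB.obj.obj := b.app O₁ ≪≫ s.app O₂
  haveI : Flat g' := MorphismProperty.pullback_fst _ _ inferInstance
  haveI : LocallyOfFinitePresentation f := inferInstance
  haveI : DCoh.HasRpush Δ := KInj.hasRightDerivedFunctor _
  have hΔ : DCoh.RpushPreservesQCoh Δ := fun K hK =>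
    KSix19.BettiExact.isQCohD_of_iso' ((rpushIsoRres Δ).app K).symm (isQCohD_Rres Δ K hK)
  let adjΔ := (aQAdj Δ).ofNatIsoLeft (rpushQIso Δ hΔ).symm
  haveI : Dual3.HasHomO Δ := GrothLib.OX.isLeftAdjoint_pushforward Δ
  haveI : EnoughInjectives X'.Modules := SheafCoh.enoughInjectives_sheafOfModules X'.ringCatSheaf
  have hpc : ∀ m : ℤ, DCoh.IsPseudoCoherentD m
      (DCoh.inD X' ((Coh.push Δ).obj (Coh.structureModule X))) := fun m =>
    isPseudoCoherentD_of_iso (RightAdj20.pushUnitPC_diagonal f m)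
      ((DerivedCategory.singleFunctorIsoCompQ X'.Modules 0).app _).symm
  obtain ⟨r⟩ := RightAdj20.nonempty_bdd_iso_of_pseudo Δ hpc hΔ (aQ Δ) adjΔ
  obtain ⟨p⟩ := RHomO20.nonempty_plus_iso (Dual3.homOAdj Δ)
  obtain ⟨adjD⟩ := CohDer19.DerAdj.nonempty_adj_res (Dual3.homOAdj Δ)
  let Φ := RHomO20.Φ (Dual3.homO Δ)
  let η : DCoh.inD X (Coh.structureModule X) ≅ Φ.obj ((DCoh.Lpull (pullback.fst f f)).obj ((Dual3.shriekC c a).obj O)) :=
    (θ ≪≫ eX).symm ≪≫
      (r ≪≫ Functor.isoWhiskerLeft (Dual3.bddToPlus _) p).app ⟨GB.obj, GB.property⟩ ≪≫ Φ.mapIso eW.symm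
  let ξ := (adjD.homEquiv _ _).symm η.hom
  refine ⟨ξ, (ShriekBridge22.relPerf_shriekC f c hc adj O hO).1, (ShriekBridge22.relPerf_shriekC f c hc adj O hO).2,
    fun M j => ?_⟩
  refine RightAdj20.bijective_shift_of_bijective (Dual3.pushD Δ) ξ (fun M => ?_) M j
  have he : (fun φ : M ⟶ DCoh.inD X (Coh.structureModule X) => (Dual3.pushD Δ).map φ ≫ ξ) =
      (adjD.homEquiv M _).symm ∘ fun φ => φ ≫ η.hom :=
    funext fun φ => (adjD.homEquiv_naturality_left_symm φ η.hom).symm
  rw [he]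
  exact (adjD.homEquiv M _).symm.bijective.comp η.homToEquiv.bijective

end GrothLib.ShriekRigid22
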